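import Groth.Agent.Lib.TopExt62.Rank
import Groth.Agent.Lib.Det62.Basic
import Mathlib.RingTheory.Smooth.Basic
import Mathlib.RingTheory.Smooth.Kaehler
import Mathlib.RingTheory.Kaehler.Basic
import Mathlib.LinearAlgebra.TensorProduct.Quotient

/-!
# Adjunction for a smooth complete intersection inside a smooth algebra
-/

set_option autoImplicit false
noncomputable section

open TensorProduct

namespace Groth.Agent.Lib.TopExt62

universe u

variable (k : Type u) [CommRing k] (A : Type u) [CommRing A] [Algebra k A] [Algebra.FiniteType k A] [Algebra.Smooth k A]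

theorem finite_kaehler : Module.Finite A Ω[A⁄k] := inferInstance

theorem exists_split (J : Ideal A) [Algebra.Smooth k (A ⧸ J)] {p : ℕ} {F : Fin p → A} (hF : GrCI62.Reg F)
    (hJ : J = Ideal.span (Set.range F)) :
    Nonempty ((Ω[(A ⧸ J)⁄k] × (Fin p → A ⧸ J)) ≃ₗ[A ⧸ J] (A ⧸ J) ⊗[A] Ω[A⁄k]) := by
  classical
  have hsurj : Function.Surjective (algebraMap A (A ⧸ J)) := Ideal.Quotient.mk_surjective
  obtain ⟨l, hl⟩ := (Algebra.FormallySmooth.iff_split_injection (R := k) hsurj).mp inferInstance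
  let kk := KaehlerDifferential.kerCotangentToTensor k A (A ⧸ J)
  let π := KaehlerDifferential.mapBaseChange k A (A ⧸ J)
  obtain ⟨eI⟩ := Det62.exists_cotangent_equiv hF J (RingHom.ker (algebraMap A (A ⧸ J))) hJ
    (Ideal.mk_ker (I := J))
  let j : (Fin p → A ⧸ J) →ₗ[A ⧸ J] (A ⧸ J) ⊗[A] Ω[A⁄k] :=
    LinearMap.extendScalarsOfSurjective hsurj (kk.comp eI.symm.toLinearMap)
  obtain ⟨s, hs⟩ := Module.projective_lifting_property π LinearMap.id
    (KaehlerDifferential.mapBaseChange_surjective k A (A ⧸ J) hsurj)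
  have hex : ∀ x, π x = 0 ↔ ∃ v, j v = x := fun x => by
    rw [show π x = KaehlerDifferential.mapBaseChange k A (A ⧸ J) x from rfl,
      KaehlerDifferential.exact_kerCotangentToTensor_mapBaseChange k A (A ⧸ J) hsurj]
    constructor
    · rintro ⟨c, rfl⟩
      exact ⟨eI c, by change kk (eI.symm (eI c)) = _; rw [eI.symm_apply_apply]⟩
    · rintro ⟨v, rfl⟩
      exact ⟨eI.symm v, rfl⟩
  have hj : Function.Injective j := fun v w h => by
    apply eI.symm.injective
    have := congrArg l h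
    change l (kk (eI.symm v)) = l (kk (eI.symm w)) at this
    rwa [show l (kk (eI.symm v)) = eI.symm v from LinearMap.congr_fun hl _,
      show l (kk (eI.symm w)) = eI.symm w from LinearMap.congr_fun hl _] at this
  refine ⟨LinearEquiv.ofBijective (s.coprod j) ⟨?_, fun x => ?_⟩⟩
  · rw [injective_iff_map_eq_zero]
    rintro ⟨y, v⟩ h
    rw [LinearMap.coprod_apply] at h
    have h1 : π (s y) + π (j v) = 0 := by rw [← map_add, h, map_zero]
    rw [(hex (j v)).mpr ⟨v, rfl⟩, add_zero, show π (s y) = y from LinearMap.congr_fun hs y] at h1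
    subst h1
    rw [map_zero, zero_add] at h
    rw [Prod.mk_eq_zero]
    exact ⟨rfl, hj (h.trans (map_zero j).symm)⟩
  · obtain ⟨v, hv⟩ := (hex (x - s (π x))).mp (by
      rw [map_sub, show π (s (π x)) = π x from LinearMap.congr_fun hs (π x), sub_self])
    exact ⟨(π x, v), by rw [LinearMap.coprod_apply, hv, add_sub_cancel]⟩

/-- `ω_A|_B = ω_B ⊗ det(J/J²) = ω_B`. -/
theorem adjunction (J : Ideal A) [Algebra.Smooth k (A ⧸ J)] {p : ℕ} {F : Fin p → A} (hF : GrCI62.Reg F)
    (hJ : J = Ideal.span (Set.range F)) (m : ℕ)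
    (hn : ∀ q : PrimeSpectrum A, Module.rankAtStalk (Ω[A⁄k]) q = m + p) :
    Module.Invertible (A ⧸ J) (⋀[A ⧸ J]^m Ω[(A ⧸ J)⁄k]) ∧
      Nonempty (⋀[A ⧸ J]^m Ω[(A ⧸ J)⁄k] ≃ₗ[A]
        (⋀[A]^(m + p) Ω[A⁄k]) ⧸ J • (⊤ : Submodule A (⋀[A]^(m + p) Ω[A⁄k]))) := by
  classical
  haveI : Algebra.FiniteType k (A ⧸ J) := Algebra.FiniteType.of_surjective (Ideal.Quotient.mkₐ k J) Ideal.Quotient.mk_surjective
  obtain ⟨e⟩ := exists_split k A J hF hJ
  have hbc : ∀ q : PrimeSpectrum (A ⧸ J), Module.rankAtStalk ((A ⧸ J) ⊗[A] Ω[A⁄k]) q = m + p := fun q => by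
    rw [Module.rankAtStalk_baseChange]; exact hn _
  have hB : ∀ q : PrimeSpectrum (A ⧸ J), Module.rankAtStalk (Ω[(A ⧸ J)⁄k]) q = m := fun q => by
    haveI : Nontrivial (A ⧸ J) := PrimeSpectrum.nontrivial q
    have h := congrFun ((Module.rankAtStalk_prod (Ω[(A ⧸ J)⁄k]) (Fin p → A ⧸ J)).symm.trans
      (Module.rankAtStalk_eq_of_equiv e)) q
    rw [Pi.add_apply, hbc q, Module.rankAtStalk_eq_finrank_of_free (M := Fin p → A ⧸ J)] at h
    simpa using h
  haveI hL := invertible_top (A ⧸ J) (Ω[(A ⧸ J)⁄k]) hB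
  haveI hN := invertible_top A (Ω[A⁄k]) hn
  let alt : Ω[A⁄k] [⋀^Fin (m + p)]→ₗ[A] ⋀[A ⧸ J]^(m + p) ((A ⧸ J) ⊗[A] Ω[A⁄k]) :=
    { toFun := fun v => exteriorPower.ιMulti (A ⧸ J) (m + p) fun i => (1 : A ⧸ J) ⊗ₜ[A] v i
      map_update_add' := fun v i x y => by
        have : ∀ z, (fun i' => (1 : A ⧸ J) ⊗ₜ[A] Function.update v i z i') =
            Function.update (fun i' => (1 : A ⧸ J) ⊗ₜ[A] v i') i (1 ⊗ₜ[A] z) := fun z =>
          funext fun i' => Function.apply_update (fun _ w => (1 : A ⧸ J) ⊗ₜ[A] w) v i z i'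
        simp only [this, TensorProduct.tmul_add, AlternatingMap.map_update_add]
      map_update_smul' := fun v i c x => by
        have : ∀ z, (fun i' => (1 : A ⧸ J) ⊗ₜ[A] Function.update v i z i') =
            Function.update (fun i' => (1 : A ⧸ J) ⊗ₜ[A] v i') i (1 ⊗ₜ[A] z) := fun z =>
          funext fun i' => Function.apply_update (fun _ w => (1 : A ⧸ J) ⊗ₜ[A] w) v i z i'
        simp only [this, TensorProduct.tmul_smul]
        rw [← algebraMap_smul (A ⧸ J) c ((1 : A ⧸ J) ⊗ₜ[A] x), AlternatingMap.map_update_smul,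
          algebraMap_smul]
      map_eq_zero_of_eq' := fun v i j h hij =>
        (exteriorPower.ιMulti (A ⧸ J) (m + p)).map_eq_zero_of_eq (fun i' => (1 : A ⧸ J) ⊗ₜ[A] v i')
          (congrArg (fun z => (1 : A ⧸ J) ⊗ₜ[A] z) h) hij }
  let Φ := (exteriorPower.alternatingMapLinearEquiv alt).liftBaseChange (A ⧸ J)
  have hΦ : Function.Surjective Φ := by
    rw [← LinearMap.range_eq_top, eq_top_iff, ← exteriorPower.ιMulti_span, Submodule.span_le]
    rintro _ ⟨v, rfl⟩
    choose w hw using fun i => TensorProduct.mk_surjective A Ω[A⁄k] (A ⧸ J) Ideal.Quotient.mk_surjective (v i)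
    refine ⟨1 ⊗ₜ[A] exteriorPower.ιMulti A (m + p) w, ?_⟩
    rw [LinearMap.liftBaseChange_tmul, one_smul, exteriorPower.alternatingMapLinearEquiv_apply_ιMulti]
    exact congrArg (exteriorPower.ιMulti (A ⧸ J) (m + p)) (funext hw)
  obtain ⟨i, π, hπ⟩ := Det62.exists_retract_prod (A ⧸ J) (Ω[(A ⧸ J)⁄k]) m p
  have hπs : Function.Surjective π := fun y => ⟨i y, LinearMap.congr_fun hπ y⟩
  let Ψ := π.comp ((exteriorPower.map (m + p) e.symm.toLinearMap).comp Φ)
  have hΨ : Function.Surjective Ψ := by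
    exact hπs.comp ((exteriorPower.map_surjective (n := m + p) (f := e.symm.toLinearMap) e.symm.surjective).comp hΦ)
  refine ⟨hL, ⟨?_⟩⟩
  exact ((LinearEquiv.ofBijective Ψ (Module.Invertible.bijective_of_surjective hΨ)).restrictScalars A).symm.trans
    (quotTensorEquivQuotSMul (⋀[A]^(m + p) Ω[A⁄k]) J)

end Groth.Agent.Lib.TopExt62
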