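import Groth.Agent.Lib.Det62.Basic
import Groth.Agent.Lib.Pic85.Dict
import Mathlib.RingTheory.Spectrum.Prime.FreeLocus
import Mathlib.RingTheory.PicardGroup

/-!
# Top exterior powers of projective modules of constant rank are invertible
-/

set_option autoImplicit false
noncomputable section

open TensorProduct

namespace Groth.Agent.Lib.TopExt62

universe u

variable (R : Type u) [CommRing R] (M : Type u) [AddCommGroup M] [Module R M]

theorem projective_extPow [Module.Finite R M] [Module.Projective R M] (m : ℕ) :
    Module.Projective R (⋀[R]^m M) := by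
  obtain ⟨N, s, i, -, -, hsi⟩ := Module.Finite.exists_comp_eq_id_of_projective R M
  refine Module.Projective.of_split (exteriorPower.map m i) (exteriorPower.map m s) ?_
  rw [← exteriorPower.map_comp, hsi, exteriorPower.map_id]

theorem finrank_fibre [Module.Finite R M] {m : ℕ} (𝔪 : Ideal R) [𝔪.IsMaximal]
    (hd : Module.finrank (R ⧸ 𝔪) ((R ⧸ 𝔪) ⊗[R] M) = m) :
    Module.finrank (R ⧸ 𝔪) ((R ⧸ 𝔪) ⊗[R] ⋀[R]^m M) = 1 := by
  classical
  letI : Field (R ⧸ 𝔪) := Ideal.Quotient.field 𝔪
  let κ := R ⧸ 𝔪
  let N := ⋀[R]^m M
  let b := Module.finBasisOfFinrankEq κ _ hd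
  let f : M →ₗ[R] κ ⊗[R] M := TensorProduct.mk R κ M 1
  have hf : Function.Surjective f := TensorProduct.mk_surjective R M κ Ideal.Quotient.mk_surjective
  let alt : M [⋀^Fin m]→ₗ[R] κ :=
    { toFun := fun v => b.det (f ∘ v)
      map_update_add' := fun v i x y => by
        simp only [Function.comp_update, map_add]
        convert b.det.map_update_add (f ∘ v) i (f x) (f y)
      map_update_smul' := fun v i c x => by
        simp only [Function.comp_update, map_smul]
        rw [← algebraMap_smul κ c (f x)]
        refine Eq.trans ?_ (algebraMap_smul κ c _)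
        convert b.det.map_update_smul (f ∘ v) i (algebraMap R κ c) (f x)
      map_eq_zero_of_eq' := fun v i j h hij => b.det.map_eq_zero_of_eq _ (congrArg f h) hij }
  let g := exteriorPower.alternatingMapLinearEquiv alt
  choose x hx using hf
  let y : Fin m → M := fun i => x (b i)
  obtain ⟨t⟩ := Det62.top_free R (Pi.basisFun R (Fin m))
  let L : (Fin m → R) →ₗ[R] M := Fintype.linearCombination R y
  let w : N := exteriorPower.map m L (t.symm 1)
  let q : N →ₗ[R] κ ⊗[R] N := TensorProduct.mk R κ N 1
  let W : Submodule R (κ ⊗[R] N) := Submodule.span R {q w}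
  -- wedges of vectors in the span of `y`
  have hspan : ∀ c : Fin m → Fin m → R, q (exteriorPower.ιMulti R m fun i => L (c i)) ∈ W := by
    intro c
    have : exteriorPower.ιMulti R m (fun i => L (c i)) = t (exteriorPower.ιMulti R m c) • w := by
      simp only [w, ← map_smul, smul_eq_mul, mul_one, LinearEquiv.symm_apply_apply,
        exteriorPower.map_apply_ιMulti]
      rfl
    rw [this, map_smul]
    exact W.smul_mem _ (Submodule.mem_span_singleton_self _)
  -- changing vectors modulo `𝔪`
  let F := q.compAlternatingMap (exteriorPower.ιMulti R m (M := M))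
  have hzero : ∀ (v : Fin m → M) (i : Fin m) (e : M), e ∈ 𝔪 • (⊤ : Submodule R M) →
      F (Function.update v i e) = 0 := by
    intro v i e he
    refine Submodule.smul_induction_on he (fun a ha z _ => ?_) (fun z z' hz hz' => ?_)
    · rw [F.map_update_smul, ← algebraMap_smul κ a, Ideal.Quotient.algebraMap_eq,
        Ideal.Quotient.eq_zero_iff_mem.mpr ha, zero_smul]
    · rw [F.map_update_add, hz, hz', add_zero]
  have hmove : ∀ v u : Fin m → M, (∀ i, v i - u i ∈ 𝔪 • (⊤ : Submodule R M)) → F v = F u := by
    intro v u h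
    have : ∀ s : Finset (Fin m), F (s.piecewise u v) = F v := by
      intro s
      induction s using Finset.induction_on with
      | empty => rw [Finset.piecewise_empty]
      | @insert i s hi ih =>
        rw [Finset.piecewise_insert, ← ih]
        have h1 : s.piecewise u v = Function.update (s.piecewise u v) i (v i) := by
          rw [eq_comm, Function.update_eq_self_iff, Finset.piecewise_eq_of_notMem _ _ _ hi]
        conv_rhs => rw [h1, show v i = u i + (v i - u i) by abel, F.map_update_add, hzero _ _ _ (h i), add_zero]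
    rw [← this Finset.univ, Finset.piecewise_univ]
  have hapx : ∀ z : M, ∃ c : Fin m → R, z - L c ∈ 𝔪 • (⊤ : Submodule R M) := by
    intro z
    choose c hc using fun j => Ideal.Quotient.mk_surjective (b.repr (f z) j)
    refine ⟨c, ?_⟩
    have h0 : f (z - L c) = 0 := by
      rw [map_sub, sub_eq_zero, show L c = ∑ j, c j • y j from Fintype.linearCombination_apply R y c, map_sum]
      conv_lhs => rw [← b.sum_repr (f z)]
      refine Finset.sum_congr rfl fun j _ => ?_
      rw [map_smul, hx, ← hc j, ← Ideal.Quotient.algebraMap_eq, algebraMap_smul]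
    have h1 := congrArg (quotTensorEquivQuotSMul M 𝔪) h0
    change quotTensorEquivQuotSMul M 𝔪 ((Ideal.Quotient.mk 𝔪 (1 : R)) ⊗ₜ[R] (z - L c)) = _ at h1
    rw [map_zero, quotTensorEquivQuotSMul_mk_tmul, one_smul] at h1
    exact (Submodule.Quotient.mk_eq_zero _).mp h1
  have hall : ∀ z : N, q z ∈ W := by
    intro z
    have hz : z ∈ Submodule.span R (Set.range (exteriorPower.ιMulti R m (M := M))) := by
      rw [exteriorPower.ιMulti_span]; trivial
    induction hz using Submodule.span_induction with
    | mem a ha =>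
      obtain ⟨v, rfl⟩ := ha
      choose c hc using fun i => hapx (v i)
      rw [show q (exteriorPower.ιMulti R m v) = F v from rfl, hmove v (fun i => L (c i)) hc]
      exact hspan c
    | zero => rw [map_zero]; exact zero_mem _
    | add a a' _ _ h h' => rw [map_add]; exact add_mem h h'
    | smul r a _ h => rw [map_smul]; exact W.smul_mem r h
  have hone : g (exteriorPower.ιMulti R m y) = 1 := by
    rw [exteriorPower.alternatingMapLinearEquiv_apply_ιMulti]
    show b.det (f ∘ y) = 1
    rw [show (f ∘ y) = b from funext fun i => hx _]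
    exact b.det_self
  have hw : q w ≠ 0 := by
    intro h
    have h2 : q (exteriorPower.ιMulti R m y) = 0 := by
      obtain ⟨r, hr⟩ := Submodule.mem_span_singleton.mp (hall (exteriorPower.ιMulti R m y))
      rw [← hr, h, smul_zero]
    have h3 := congrArg (g.liftBaseChange κ) h2
    simp only [q, TensorProduct.mk_apply, LinearMap.liftBaseChange_tmul, one_smul, map_zero, hone] at h3
    exact one_ne_zero h3
  refine finrank_eq_one (q w) hw fun z => ?_
  induction z using TensorProduct.induction_on with
  | zero => exact ⟨0, zero_smul _ _⟩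
  | tmul c n =>
    obtain ⟨r, hr⟩ := Submodule.mem_span_singleton.mp (hall n)
    refine ⟨c * algebraMap R κ r, ?_⟩
    rw [mul_smul, algebraMap_smul, hr]
    simp [q, TensorProduct.smul_tmul']
  | add z z' hz hz' =>
    obtain ⟨c, hc⟩ := hz
    obtain ⟨c', hc'⟩ := hz'
    exact ⟨c + c', by rw [add_smul, hc, hc']⟩

/-- The top exterior power of a projective module of constant rank. -/
theorem invertible_top [Module.Finite R M] [Module.Projective R M] {m : ℕ}
    (h : ∀ p : PrimeSpectrum R, Module.rankAtStalk M p = m) : Module.Invertible R (⋀[R]^m M) := by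
  have := projective_extPow R M m
  refine Pic85.moduleInvertible_of_sheaf (ModuleCat.of R (⋀[R]^m M))
    (ProjMor.InvTilde.isInvertible_of_projective (R := CommRingCat.of R) (ModuleCat.of R (⋀[R]^m M)) fun p => ?_)
  obtain ⟨𝔪, h𝔪, hle⟩ := Ideal.exists_le_maximal p.asIdeal p.isPrime.ne_top
  change Module.rankAtStalk (⋀[R]^m M) p = 1
  rw [Module.rankAtStalk_eq_of_le_of_finite_of_flat _ (q := ⟨𝔪, h𝔪.isPrime⟩) hle]
  letI : Field (R ⧸ 𝔪) := Ideal.Quotient.field 𝔪
  let z : PrimeSpectrum (R ⧸ 𝔪) := ⟨⊥, Ideal.isPrime_bot⟩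
  have hz : z.comap (algebraMap R (R ⧸ 𝔪)) = ⟨𝔪, h𝔪.isPrime⟩ := PrimeSpectrum.ext <| by
    ext a
    simp [z, Ideal.Quotient.eq_zero_iff_mem]
  have key : ∀ (P : Type u) [AddCommGroup P] [Module R P] [Module.Finite R P] [Module.Projective R P],
      Module.rankAtStalk P (⟨𝔪, h𝔪.isPrime⟩ : PrimeSpectrum R) = Module.finrank (R ⧸ 𝔪) ((R ⧸ 𝔪) ⊗[R] P) := by
    intro P _ _ _ _
    rw [← hz, ← Module.rankAtStalk_baseChange, Module.rankAtStalk_eq_finrank_of_free]
    rfl
  rw [key]
  exact finrank_fibre R M 𝔪 ((key M).symm.trans (h _))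

end Groth.Agent.Lib.TopExt62
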