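import Groth.Agent.Lib.DMod.ExtRegSeq
import Mathlib.RingTheory.PicardGroup
import Mathlib.RingTheory.Finiteness.Projective

/-!
# `Ext` out of a line bundle on a complete intersection
-/

set_option autoImplicit false
noncomputable section

open CategoryTheory Abelian
open Groth.Agent.Lib.DMod.ExtRegSeq

namespace Groth.Agent.Lib.TopExt62

universe u

variable {A : Type u} [CommRing A]

theorem mk₀_smul_comp {X : ModuleCat.{u} A} {N : ModuleCat.{u} A} {p : ℕ} (r : A) (ξ : Ext X N p) :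
    (Ext.mk₀ (r • 𝟙 X)).comp ξ (zero_add p) = r • ξ := by
  rw [Ext.mk₀_smul, Ext.smul_comp, Ext.mk₀_id_comp]

/-- `Hom(L, Ext(A/J, N)) = Ext(L, N)` for `L` projective over `A/J`. -/
theorem nonempty_ext_equiv_hom (J : Ideal A) (L : Type u) [AddCommGroup L] [Module A L] [Module (A ⧸ J) L]
    [IsScalarTower A (A ⧸ J) L] [Module.Finite (A ⧸ J) L] [Module.Projective (A ⧸ J) L]
    (N : ModuleCat.{u} A) (p : ℕ) :
    Nonempty (Ext (ModuleCat.of A L) N p ≃ₗ[A] (L →ₗ[A] Ext (Q J) N p)) := by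
  classical
  have hL : ∀ a ∈ J, ∀ m : ModuleCat.of A L, a • m = 0 := fun a ha m => by
    change a • (m : L) = 0
    rw [← algebraMap_smul (A ⧸ J) a (m : L), Ideal.Quotient.algebraMap_eq,
      Ideal.Quotient.eq_zero_iff_mem.mpr ha, zero_smul]
  obtain ⟨d, s, i, -, -, hsi⟩ := Module.Finite.exists_comp_eq_id_of_projective (A ⧸ J) L
  let φ : Fin d → (ModuleCat.of A L ⟶ Q J) := fun j =>
    ModuleCat.ofHom (((LinearMap.proj j).comp i).restrictScalars A)
  let m : Fin d → L := fun j => s (Pi.single j 1)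
  have hsum : ∀ x : L, ∑ j, (i x j) • m j = x := fun x => by
    have h1 : s (i x) = x := LinearMap.congr_fun hsi x
    conv_rhs => rw [← h1, pi_eq_sum_univ' (i x), map_sum]
    simp [m, map_smul]
  have hpl : ∀ (n : L) (b : A ⧸ J), (pl hL n).hom b = b • n := fun n b => by
    obtain ⟨a, rfl⟩ := Submodule.Quotient.mk_surjective J b
    exact (algebraMap_smul (A ⧸ J) a n).symm
  have hid : ∑ j, φ j ≫ pl hL (m j) = 𝟙 (ModuleCat.of A L) := by
    refine ModuleCat.hom_ext (LinearMap.ext fun x => ?_)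
    simp only [ModuleCat.hom_sum, LinearMap.sum_apply, ModuleCat.hom_comp, LinearMap.comp_apply, hpl]
    exact hsum x
  let θ : Ext (ModuleCat.of A L) N p →ₗ[A] (L →ₗ[A] Ext (Q J) N p) :=
    { toFun := fun ξ =>
        { toFun := fun n => (Ext.mk₀ (pl hL n)).comp ξ (zero_add p)
          map_add' := fun n n' => by rw [pl_add, Ext.mk₀_add, Ext.add_comp]
          map_smul' := fun r n => by rw [pl_smul, Ext.mk₀_smul, Ext.smul_comp, RingHom.id_apply] }
      map_add' := fun ξ η => LinearMap.ext fun n => Ext.comp_add _ _ _ (zero_add p)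
      map_smul' := fun r ξ => LinearMap.ext fun n => Ext.comp_smul _ _ (zero_add p) _ }
  have hexp : ∀ ξ : Ext (ModuleCat.of A L) N p, ξ = ∑ j, (Ext.mk₀ (φ j)).comp (θ ξ (m j)) (zero_add p) := by
    intro ξ
    conv_lhs => rw [← Ext.mk₀_id_comp ξ, ← hid, Ext.mk₀_sum, Ext.sum_comp]
    refine Finset.sum_congr rfl fun j _ => ?_
    exact (Ext.mk₀_comp_mk₀_assoc _ _ _).symm
  refine ⟨LinearEquiv.ofBijective θ ⟨?_, ?_⟩⟩
  · rw [injective_iff_map_eq_zero]
    intro ξ hξ
    rw [hexp ξ]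
    simp [hξ]
  · intro h
    refine ⟨∑ j, (Ext.mk₀ (φ j)).comp (h (m j)) (zero_add p), LinearMap.ext fun n => ?_⟩
    change (Ext.mk₀ (pl hL n)).comp (∑ j, (Ext.mk₀ (φ j)).comp (h (m j)) (zero_add p)) (zero_add p) = h n
    choose a ha using fun j => Submodule.Quotient.mk_surjective J (i n j)
    have hcomp : ∀ j, pl hL n ≫ φ j = a j • 𝟙 (Q J) := fun j => by
      refine ModuleCat.hom_ext (LinearMap.ext fun b => ?_)
      change i ((pl hL n).hom b) j = a j • b
      rw [hpl, map_smul, Pi.smul_apply, ← algebraMap_smul (A ⧸ J) (a j) b, Ideal.Quotient.algebraMap_eq, ← ha j]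
      exact mul_comm b _
    rw [Ext.comp_sum]
    simp only [Ext.mk₀_comp_mk₀_assoc, hcomp, mk₀_smul_comp]
    conv_rhs => rw [← hsum n, map_sum]
    refine Finset.sum_congr rfl fun j _ => ?_
    rw [← map_smul, ← ha j, ← algebraMap_smul (A ⧸ J) (a j) (m j)]
    rfl

/-- `Ext^p(L, N) = A/J` for `L ≅ N/JN` a line bundle on the complete intersection `A/J`. -/
theorem nonempty_ext_equiv_quot {xs : List A} (hreg : RingTheory.Sequence.IsWeaklyRegular A xs) (J : Ideal A)
    (hJ : Ideal.ofList xs = J) (L : Type u) [AddCommGroup L] [Module A L] [Module (A ⧸ J) L]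
    [IsScalarTower A (A ⧸ J) L] [Module.Invertible (A ⧸ J) L] (N : Type u) [AddCommGroup N] [Module A N]
    (e : L ≃ₗ[A] N ⧸ J • (⊤ : Submodule A N)) :
    Nonempty (Ext (ModuleCat.of A L) (ModuleCat.of A N) xs.length ≃ₗ[A] A ⧸ J) := by
  subst hJ
  obtain ⟨e₁⟩ := nonempty_ext_equiv_hom (Ideal.ofList xs) L (ModuleCat.of A N) xs.length
  obtain ⟨e₂⟩ := nonempty_top N xs hreg
  let f : (A ⧸ Ideal.ofList xs) →ₗ[A] (L →ₗ[A] L) :=
    { toFun := fun b =>
        { toFun := fun x => b • x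
          map_add' := smul_add b
          map_smul' := fun r x => smul_comm b r x }
      map_add' := fun b c => LinearMap.ext fun x => add_smul b c x
      map_smul' := fun r b => LinearMap.ext fun x => smul_assoc r b x }
  have hf : Function.Bijective f := by
    have h := Module.Invertible.toModuleEnd_bijective (A ⧸ Ideal.ofList xs) L
    refine ⟨fun b c hbc => h.1 (LinearMap.ext fun x => LinearMap.congr_fun hbc x), fun g => ?_⟩
    obtain ⟨b, hb⟩ := h.2 (LinearMap.extendScalarsOfSurjective Ideal.Quotient.mk_surjective g)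
    exact ⟨b, LinearMap.ext fun x => LinearMap.congr_fun hb x⟩
  exact ⟨e₁.trans (((LinearEquiv.refl A L).arrowCongr (e₂.trans e.symm)).trans (LinearEquiv.ofBijective f hf).symm)⟩

end Groth.Agent.Lib.TopExt62
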